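import Mathlib
import Cfsg.Agent.OddHalf.D4.LemmaOut
import Cfsg.Agent.OddHalf.D4.Free.Defs
import Cfsg.Agent.OddHalf.D4.Free.Exist

-- merged: Cfsg.Agent.OddHalf.D4.Free.Chi
section

/-!
# ODD, D4, (1B): LEMMA OUT modulo a subgroup

`W` a subgroup of the hull `V = ⟨V₀^n⟩` containing `V₀`, `N ∩ M` acting trivially on `V / W`; the traces over `T` vanish.
Then `V ≤ W`.
-/

set_option autoImplicit false

namespace Cfsg.Agent.OddHalf.D4.Free

open Cfsg Subgroup Cfsg.Agent.OddHalf.D4 Cfsg.Agent.OddHalf.D4.Basic Cfsg.Agent.OddHalf.D4.BaryEnd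

/-- **LEMMA OUT modulo `W`.** -/
theorem hull_le_of_trace {G : Type*} [Group G] [Finite G] {M N V₀ T W : Subgroup G}
    (hab : ∀ x ∈ hull N V₀, ∀ y ∈ hull N V₀, x * y = y * x)
    (hCM : ∀ n ∈ N, (∀ v ∈ hull N V₀, n * v = v * n) → n ∈ M)
    (hV₀W : V₀ ≤ W) (hWM : ∀ n ∈ N, n ∈ M → ∀ v ∈ hull N V₀, v⁻¹ * (n * v * n⁻¹) ∈ W)
    (hTN : T ≤ N) (hTM : T ≤ M)
    (semi : ∀ n ∈ N, n ∉ M → ∀ s ∈ T, n⁻¹ * s * n ∈ M → ∀ v ∈ hull N V₀, s * v = v * s)
    (htr : ∀ v ∈ hull N V₀, ∃ a ∈ T, ∃ b ∈ T,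
      (∀ w ∈ hull N V₀, a * a * w = w * (a * a)) ∧ (∀ w ∈ hull N V₀, b * b * w = w * (b * b)) ∧
      (∀ w ∈ hull N V₀, a * b * w * (a * b)⁻¹ = b * a * w * (b * a)⁻¹) ∧
      (∃ w ∈ hull N V₀, a * w ≠ w * a) ∧ (∃ w ∈ hull N V₀, b * w ≠ w * b) ∧
      (∃ w ∈ hull N V₀, a⁻¹ * b * w ≠ w * (a⁻¹ * b)) ∧
      v * (a * v * a⁻¹) * (b * v * b⁻¹) * (a * b * v * (a * b)⁻¹) = 1) :
    hull N V₀ ≤ W := by
  classical
  set V := hull N V₀ with hV
  have hV₀V : V₀ ≤ V := fun x hx => subset_closure ⟨1, one_mem _, x, hx, by group⟩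
  let hcg : CommGroup ↥V := { (inferInstance : Group ↥V) with mul_comm := fun x y => Subtype.ext (hab x x.2 y y.2) }
  let W' : Subgroup ↥V := W.subgroupOf V
  let χ' : ↥V →* ↥V ⧸ W' := QuotientGroup.mk' W'
  let hact : MulDistribMulAction ↥N ↥V := conjAct N V (fun n hn v hv => hull_cj hn hv)
  have hsmul : ∀ (n : ↥N) (v : ↥V), ((n • v : ↥V) : G) = n * v * (n : G)⁻¹ := fun _ _ => rfl
  -- the group of automorphisms
  let φ : ↥N →* MulAut ↥V := MulDistribMulAction.toMulAut ↥N ↥V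
  let ψ : ↥N →* ↥φ.range := φ.rangeRestrict
  have hψs : Function.Surjective ψ := φ.rangeRestrict_surjective
  have : Finite ↥φ.range := Finite.of_surjective ψ hψs
  have hψ : ∀ (n : ↥N) (v : ↥V), ψ n • v = n • v := fun _ _ => rfl
  have hker : ∀ n : ↥N, ψ n = 1 ↔ ∀ v ∈ V, (n : G) * v = v * n := by
    intro n
    constructor
    · intro h1 v hv
      have h2 := hψ n ⟨v, hv⟩
      rw [h1, one_smul] at h2
      have h3 : v = (n : G) * v * (n : G)⁻¹ := congrArg Subtype.val h2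
      calc (n : G) * v = (n : G) * v * (n : G)⁻¹ * n := by group
        _ = v * n := by rw [← h3]
    · intro h1
      apply Subtype.ext
      apply MulEquiv.ext
      intro v
      show n • v = v
      apply Subtype.ext
      rw [hsmul, h1 v v.2]
      group
  have hψeq : ∀ a b : ↥N, ψ a = ψ b → ∀ v ∈ V, ((a : G)⁻¹ * b) * v = v * ((a : G)⁻¹ * b) := by
    intro a b h1
    have h2 : ψ (a⁻¹ * b) = 1 := by rw [map_mul, map_inv, h1, inv_mul_cancel]
    exact (hker _).mp h2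
  let Y : Subgroup ↥φ.range := (M.subgroupOf N).map ψ
  let E : Subgroup ↥φ.range := (T.subgroupOf N).map ψ
  let hfE : Fintype ↥E := Fintype.ofFinite _
  have hEY : E ≤ Y := by
    rintro _ ⟨t, ht', rfl⟩
    exact ⟨t, mem_subgroupOf.mpr (hTM (mem_subgroupOf.mp ht')), rfl⟩
  have key := LemmaOut.chi_inv (Γ := ↥φ.range) (V := ↥V) (Y := Y) (E := E) hEY (χ := χ') (by
      rintro _ ⟨y, hy, rfl⟩ v
      have hyM : (y : G) ∈ M := mem_subgroupOf.mp hy
      rw [hψ, eq_comm]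
      show ((v : ↥V) : ↥V ⧸ W') = ((y • v : ↥V) : ↥V ⧸ W')
      rw [QuotientGroup.eq]
      exact mem_subgroupOf.mpr (hWM y y.2 hyM v v.2)) (by
      intro g hg s hs hgs
      obtain ⟨g, rfl⟩ := hψs g
      obtain ⟨s, hs, rfl⟩ := hs
      obtain ⟨y, hy, hyg⟩ := hgs
      have h1 : ψ y = ψ (g⁻¹ * s * g) := by rw [hyg, map_mul, map_mul, map_inv]
      have h2 := hψeq _ _ h1
      have h3 : ((y : G))⁻¹ * ((g⁻¹ * s * g : ↥N) : G) ∈ M :=
        hCM _ (mul_mem (inv_mem y.2) (g⁻¹ * s * g : ↥N).2) h2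
      have h4 : (g : G)⁻¹ * s * g ∈ M := by
        have h5 := mul_mem (mem_subgroupOf.mp hy) h3
        have e : (y : G) * ((y : G)⁻¹ * ((g⁻¹ * s * g : ↥N) : G)) = (g : G)⁻¹ * s * g := by push_cast; group
        rwa [e] at h5
      have h5 : (g : G) ∉ M := fun h => hg ⟨g, mem_subgroupOf.mpr h, rfl⟩
      exact (hker s).mpr (semi _ g.2 h5 _ (mem_subgroupOf.mp hs) h4)) (by
      intro v
      obtain ⟨a, ha, b, hb, ha2, hb2, hab', ⟨w₁, hw₁, hne₁⟩, ⟨w₂, hw₂, hne₂⟩, ⟨w₃, hw₃, hne₃⟩, htr'⟩ :=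
        htr v v.2
      have haN : a ∈ N := hTN ha
      have hbN : b ∈ N := hTN hb
      let a' : ↥E := ⟨ψ ⟨a, haN⟩, ⟨⟨a, haN⟩, mem_subgroupOf.mpr ha, rfl⟩⟩
      let b' : ↥E := ⟨ψ ⟨b, hbN⟩, ⟨⟨b, hbN⟩, mem_subgroupOf.mpr hb, rfl⟩⟩
      have ha3 : a' * a' = 1 := by
        apply Subtype.ext
        show ψ ⟨a, haN⟩ * ψ ⟨a, haN⟩ = 1
        rw [← map_mul]
        exact (hker _).mpr ha2
      have hb3 : b' * b' = 1 := by
        apply Subtype.ext
        show ψ ⟨b, hbN⟩ * ψ ⟨b, hbN⟩ = 1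
        rw [← map_mul]
        exact (hker _).mpr hb2
      have hab3 : a' * b' = b' * a' := by
        apply Subtype.ext
        show ψ ⟨a, haN⟩ * ψ ⟨b, hbN⟩ = ψ ⟨b, hbN⟩ * ψ ⟨a, haN⟩
        rw [← map_mul, ← map_mul]
        apply Subtype.ext
        apply MulEquiv.ext
        intro w
        exact Subtype.ext (hab' w w.2)
      have htr3 : v * a' • v * b' • v * (a' * b') • v = 1 := by
        apply Subtype.ext
        show (v : G) * (a * v * a⁻¹) * (b * v * b⁻¹) * (a * (b * v * b⁻¹) * a⁻¹) = 1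
        rw [← htr']
        group
      refine prod_smul_eq_one (Y := ↥E) (V := ↥V) (a := a') (b := b') ha3 hb3 hab3 ?_ ?_ ?_
        (v := v) htr3
      · intro h
        exact hne₁ ((hker ⟨a, haN⟩).mp (congrArg Subtype.val h) w₁ hw₁)
      · intro h
        exact hne₂ ((hker ⟨b, hbN⟩).mp (congrArg Subtype.val h) w₂ hw₂)
      · intro h
        exact hne₃ (hψeq ⟨a, haN⟩ ⟨b, hbN⟩ (congrArg Subtype.val h) w₃ hw₃))
  -- conclusion
  have hle : V ≤ W := by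
    rw [hV]
    unfold hull
    rw [closure_le]
    rintro _ ⟨n, hn, x, hx, rfl⟩
    have h1 := key (ψ ⟨n, hn⟩) ⟨x, hV₀V hx⟩
    rw [hψ] at h1
    have h2 : χ' ⟨x, hV₀V hx⟩ = 1 := (QuotientGroup.eq_one_iff _).mpr (mem_subgroupOf.mpr (hV₀W hx))
    rw [h2] at h1
    exact mem_subgroupOf.mp ((QuotientGroup.eq_one_iff _).mp h1)
  exact hle

end Cfsg.Agent.OddHalf.D4.Free

end

-- merged: Cfsg.Agent.OddHalf.D4.Free.Max
section

/-!
# ODD, D4, (1B): maximal free pairs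

`zc_le`: a maximal free pair contains `Z(S ∩ K)` for all good `S ≥ P`. `line_le`: a line of `N_K(P)` normalizing `L`
lies in `P`. `false_of_max`: `N(P) ≤ N(K)`.
-/

set_option autoImplicit false

namespace Cfsg.Agent.OddHalf.D4.Free

open Cfsg Subgroup Cfsg.Agent.OddHalf.D4 Cfsg.Agent.OddHalf.D4.Basic Cfsg.Agent.OddHalf.D4.BaryEnd
open Cfsg.Agent.OddHalf.D4.KMax Cfsg.Agent.OddHalf.D4.LineR
open Cfsg.Agent.OddHalf.D4.CommConj (Tight cj mem_cj cj_mul card_cj mem_cj_mul exists_central_involution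
  cj_eq_of_mem_normalizer mem_normalizer_of_cj_eq)

variable {G : Type*} [Group G] [Finite G] {K L P : Subgroup G}

/-- **(B)** `Z(S ∩ K) ≤ P` -/
theorem zc_le (htL : TightAt L) (heL : Even (Nat.card ↥(centralizer (L : Set G)))) (hBK : BFacts K)
    (hBL : BFacts L) (h : FreePair K L P) (hmax : ∀ P₁, FreePair K L P₁ → P ≤ P₁ → P₁ ≤ P) {S : Subgroup G}
    (hS : Good K S) (hPS : P ≤ S) : zc K S ≤ P := by
  have hPz := h.frK.le_cz hBK hS hPS
  obtain ⟨r, hr, hr2⟩ := exists_inv_syl h.sylL heL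
  have hzL : zc K S ≤ normalizer (L : Set G) := by
    intro x hx
    exact htL.mem hr.2 hr2 (mem_cz.mp (hPz hr.1) x hx)
  have hP₁S : P ⊔ zc K S ≤ S := sup_le hPS zc_le_S
  have h2 : IsPGroup 2 ↥(P ⊔ zc K S) := hS.two.to_le hP₁S
  have hP₁L : P ⊔ zc K S ≤ normalizer (L : Set G) := sup_le h.frL.le hzL
  obtain ⟨T, hT, hP₁T⟩ := exists_good h2 hP₁L
  have hfr : Fr L (P ⊔ zc K S) := by
    refine ⟨T, hT, hP₁T, sup_le ?_ ?_⟩
    · exact h.frL.le_cz hBL hT (le_sup_left.trans hP₁T)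
    · intro x hx
      obtain ⟨S', hS', hz'⟩ := h.zL
      apply hBL.field S' T hS' hT x (hP₁T (mem_sup_right hx))
      rw [mem_cz]
      intro z hz
      exact (mem_cz.mp (hPz (hz' hz)) x hx).symm
  exact le_sup_right.trans
    (hmax (P ⊔ zc K S) (h.up le_sup_left ⟨S, hS, hP₁S, sup_le hPz zc_le_cz⟩ hfr) le_sup_left)

/-- **LINE LEMMA.** -/
theorem line_le (htK : TightAt K) (heK : Even (Nat.card ↥(centralizer (K : Set G))))
    (hBK : BFacts K) (hBL : BFacts L) (h : FreePair K L P)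
    (hmax : ∀ P₁, FreePair K L P₁ → P ≤ P₁ → P₁ ≤ P) {S D l : Subgroup G} (hS : Good K S) (hPS : P ≤ S)
    (hD : D ≤ P) (hlS : l ≤ S ⊓ K) (hlL : l ≤ normalizer (L : Set G)) (hl : IsLineF K S D l) : l ≤ P := by
  have hPz := h.frK.le_cz hBK hS hPS
  have hP₂S : P ⊔ l ≤ S := sup_le hPS (hlS.trans inf_le_left)
  have h2 : IsPGroup 2 ↥(P ⊔ l) := hS.two.to_le hP₂S
  have hP₂L : P ⊔ l ≤ normalizer (L : Set G) := sup_le h.frL.le hlL
  obtain ⟨T, hT, hP₂T⟩ := exists_good h2 hP₂L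
  have hPT : P ≤ T := le_sup_left.trans hP₂T
  have hlT : l ≤ T := le_sup_right.trans hP₂T
  have hzP : zc L T ≤ P :=
    zc_le htK heK hBL hBK h.symm (fun P₁ hP₁ => hmax P₁ hP₁.symm) hT hPT
  have hPzT : P ≤ cz L T := h.frL.le_cz hBL hT hPT
  obtain ⟨a, ha, b, hb, haD, hbD, habD⟩ := hl.pair
  -- an element of `l ∖ D` centralizing `zc L T`
  obtain ⟨x, hx, hxD, hxz⟩ : ∃ x ∈ l, x ∉ D ∧ x ∈ cz L T := by
    rcases hBL.cyc T hT a (hlT ha) b (hlT hb) (hPzT (hD (hl.sq a ha))) (hPzT (hD (hl.sq b hb))) with h1 | h1 | h1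
    · exact ⟨a, ha, haD, h1⟩
    · exact ⟨b, hb, hbD, h1⟩
    · exact ⟨_, mul_mem (inv_mem ha) hb, habD, h1⟩
  have hlz : l ≤ cz L T := by
    intro x' hx'
    rw [mem_cz]
    intro z hz
    have h3 := hl.star z (hPS (hzP hz)) (hPz (hzP hz)) (hBL.sq T hT z hz) x hx hxD (mem_cz.mp hxz z hz).symm x' hx'
    exact h3.symm
  exact le_sup_right.trans (hmax (P ⊔ l) (h.up le_sup_left
    ⟨S, hS, hP₂S, sup_le hPz (hlS.trans inf_le_cz)⟩ ⟨T, hT, hP₂T, sup_le hPzT hlz⟩) le_sup_left)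

/-- the inner elements of `V` -/
def innerIn (K V : Subgroup G) : Subgroup G where
  carrier := {x | x ∈ V ∧ Inner K x}
  one_mem' := ⟨V.one_mem, Inner.one⟩
  mul_mem' := fun ha hb => ⟨V.mul_mem ha.1 hb.1, ha.2.mul hb.2⟩
  inv_mem' := fun ha => ⟨V.inv_mem ha.1, ha.2.inv⟩

/-- **(C)** -/
theorem false_of_max (ht : TightAt K) (he : Even (Nat.card ↥(centralizer (K : Set G))))
    (hcen : ∀ x ∈ K, x ∈ centralizer (K : Set G) → x = 1) (hBK : BFacts K) (hB : ∀ g : G, BFacts (cj g K))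
    (hfr : ∀ n ∈ normalizer (P : Set G), n ∉ normalizer (K : Set G) → FreePair K (cj n K) P)
    (hmax : ∀ n ∈ normalizer (P : Set G), n ∉ normalizer (K : Set G) → ∀ P₁, FreePair K (cj n K) P₁ →
      P ≤ P₁ → P₁ ≤ P)
    (hend : ∃ n ∈ normalizer (P : Set G), n ∉ normalizer (K : Set G))
    {S : Subgroup G} (hS : Good K S) (hPS : P ≤ S) (hSP : ¬ S ⊓ K ≤ P) : False := by
  classical
  set N := normalizer (P : Set G) with hN
  set M := normalizer (K : Set G) with hM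
  set C := centralizer (K : Set G) with hC
  obtain ⟨n₀, hn₀, hn₀M⟩ := hend
  have hfr₀ := hfr n₀ hn₀ hn₀M
  have hPM : P ≤ M := hfr₀.frK.le
  have hP2 : IsPGroup 2 ↥P := hfr₀.frK.two
  have hPz : P ≤ cz K S := hfr₀.frK.le_cz hBK hS hPS
  have hQ : IsSyl (P ⊓ C) C := hfr₀.sylK
  obtain ⟨D, hD, l, hlS, hlN, hlP, hl⟩ := hBK.line S hS P hPS hPz hSP
  have hlK : l ≤ K := hlS.trans inf_le_right
  have hlM : l ≤ M := hlK.trans le_normalizer
  have hl2 : IsPGroup 2 ↥l := hS.two.to_le (hlS.trans inf_le_left)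
  have hcomm : ∀ k ∈ K, ∀ c ∈ C, k * c = c * k := fun k hk c hc => mem_centralizer_iff.mp hc k hk
  have hKM : ∀ m ∈ M, ∀ k ∈ K, m * k * m⁻¹ ∈ K := fun m hm k hk => (mem_normalizer_iff.mp hm k).mp hk
  have hcjP : ∀ n ∈ N, ∀ x ∈ P, n * x * n⁻¹ ∈ P := fun n hn x hx => (mem_normalizer_iff.mp hn x).mp hx
  -- the hull
  have hVZ := hull_omegaZ (C := C) (E := P)
  set V₀ := omegaZ P C with hV₀d
  set V := hull N V₀ with hVd
  have hV₀V : V₀ ≤ V := fun x hx => subset_closure ⟨1, one_mem _, x, hx, by group⟩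
  have hV2 : ∀ v ∈ V, v * v = 1 := fun v hv => (hVZ v hv).2.1
  have hVP : V ≤ P := fun v hv => (hVZ v hv).1
  have hab : ∀ x ∈ V, ∀ y ∈ V, x * y = y * x := fun x hx y hy => (hVZ y hy).2.2 x (hVP hx)
  have hPV : ∀ p ∈ P, ∀ v ∈ V, p * v = v * p := fun p hp v hv => (hVZ v hv).2.2 p hp
  have hVN : ∀ n ∈ N, n ∈ M → ∀ x ∈ V₀, n * x * n⁻¹ ∈ V₀ := by
    intro n hn hnM x hx
    have h1 := hVZ _ (hull_cj (v := x) hn (hV₀V hx))
    exact ⟨h1.1, ht.norm n hnM x hx.2.1, h1.2.1, h1.2.2⟩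
  obtain ⟨z, hz, hz2⟩ : ∃ z ∈ V₀, orderOf z = 2 := by
    obtain ⟨y, hy, hy2⟩ := exists_inv_syl hQ he
    obtain ⟨z, hzP, hzC, hz2, hzc⟩ := exists_central_involution (S := P) (N := P ⊓ C) hP2 (by
        intro s hs n hn
        exact mem_inf.mpr ⟨mul_mem (mul_mem hs hn.1) (inv_mem hs), ht.norm s (hPM hs) n hn.2⟩)
      ⟨y, hy.1, hy, by rintro rfl; rw [orderOf_one] at hy2; exact absurd hy2 (by norm_num)⟩
    exact ⟨z, ⟨hzP, hzC.2, by rw [← pow_two, ← hz2]; exact pow_orderOf_eq_one z, hzc⟩, hz2⟩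
  have hzC : z ∈ C := hz.2.1
  have hz1 : z ≠ 1 := by
    rintro rfl
    rw [orderOf_one] at hz2; exact absurd hz2 (by norm_num)
  -- an element of `l ∖ D` commutes with no element of `(V₀^n)#`
  have key : ∀ n ∈ N, n ∉ M → ∀ v, n⁻¹ * v * n ∈ V₀ → v ≠ 1 → ∀ t ∈ l, t ∉ D → t * v = v * t → False := by
    intro n hn hnM v hv hv1 t htl htD htv
    apply hlP
    have hvV : v ∈ V := by
      have h1 := hull_cj (v := n⁻¹ * v * n) hn (hV₀V hv)
      have e : n * (n⁻¹ * v * n) * n⁻¹ = v := by group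
      rwa [e] at h1
    have hvP := hVP hvV
    have hst := hl.star v (hPS hvP) (hPz hvP) (hV2 v hvV) t htl htD htv
    have hv2 : orderOf v = 2 := orderOf_eq_prime (by rw [pow_two]; exact hV2 v hvV) hv1
    refine line_le ht he hBK (hB n) (hfr n hn hnM) (hmax n hn hnM) hS hPS hD hlS ?_ hl
    intro x hx
    refine (ht.cj n).mem ?_ hv2 (hst x hx)
    rw [centralizer_cj, mem_cj]
    exact hv.2.1
  -- semiregularity
  have semi : ∀ n ∈ N, n ∉ M → ∀ s ∈ l, n⁻¹ * s * n ∈ M → ∀ v ∈ V, s * v = v * s := by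
    intro n hn hnM s hs hns
    by_cases hsD : s ∈ D
    · exact fun v hv => hPV s (hD hsD) v hv
    · exfalso
      have hA : cj n V₀ ≤ P := by
        intro x hx
        have h1 := hcjP n hn _ (mem_cj.mp hx).1
        have e : n * (n⁻¹ * x * n) * n⁻¹ = x := by group
        rwa [e] at h1
      have hT' : cj n V₀ ⊔ zpowers s ≤ S := sup_le (hA.trans hPS) (by rw [zpowers_le]; exact (hlS hs).1)
      have hsN : zpowers s ≤ normalizer ((cj n V₀ : Subgroup G) : Set G) := by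
        rw [zpowers_le]
        apply mem_normalizer_fintype
        intro x hx
        show s * x * s⁻¹ ∈ cj n V₀
        have hx' : n⁻¹ * x * n ∈ V₀ := mem_cj.mp hx
        rw [mem_cj]
        have h1 := hVN (n⁻¹ * s * n) (mul_mem (mul_mem (inv_mem hn) (hlN hs)) hn) hns _ hx'
        have e : n⁻¹ * s * n * (n⁻¹ * x * n) * (n⁻¹ * s * n)⁻¹ = n⁻¹ * (s * x * s⁻¹) * n := by group
        rwa [e] at h1
      have hTn : cj n V₀ ⊔ zpowers s ≤ normalizer ((cj n V₀ : Subgroup G) : Set G) := sup_le le_normalizer hsN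
      obtain ⟨v, -, hvA, hv2, hvc⟩ := exists_central_involution (S := cj n V₀ ⊔ zpowers s) (N := cj n V₀)
        (hS.two.to_le hT') (by
          intro y hy x hx
          exact (mem_normalizer_iff.mp (hTn hy) x).mp hx)
        ⟨n * z * n⁻¹, mem_sup_left (mem_cj_mul hz), mem_cj_mul hz, by
          intro h1
          apply hz1
          have h2 : z = n⁻¹ * (n * z * n⁻¹) * n := by group
          rw [h2, h1]; group⟩
      refine key n hn hnM v (mem_cj.mp hvA) ?_ s hs hsD (hvc s (mem_sup_right (mem_zpowers s)))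
      rintro rfl
      rw [orderOf_one] at hv2; exact absurd hv2 (by norm_num)
  -- elements outside `D` act nontrivially
  have hnt : ∀ t ∈ l, t ∉ D → ∃ v ∈ V, t * v ≠ v * t := by
    intro t htl htD
    by_contra hcon
    push Not at hcon
    have hv : n₀⁻¹ * (n₀ * z * n₀⁻¹) * n₀ ∈ V₀ := by
      have e : n₀⁻¹ * (n₀ * z * n₀⁻¹) * n₀ = z := by group
      rw [e]; exact hz
    refine key n₀ hn₀ hn₀M _ hv ?_ t htl htD (hcon _ (hull_cj hn₀ (hV₀V hz)))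
    intro h1
    apply hz1
    have h2 : z = n₀⁻¹ * (n₀ * z * n₀⁻¹) * n₀ := by group
    rw [h2, h1]; group
  -- commutators
  have hbr : ∀ v ∈ V, ∀ x ∈ l, v * x * v⁻¹ * x⁻¹ ∈ V := by
    intro v hv x hx
    have e : v * x * v⁻¹ * x⁻¹ = v * (x * v⁻¹ * x⁻¹) := by group
    rw [e]
    exact mul_mem hv (hull_cj (hlN hx) (inv_mem hv))
  have hsq : ∀ x ∈ l, ∀ v ∈ V, x * x * v = v * (x * x) := fun x hx v hv => hPV _ (hD (hl.sq x hx)) v hv
  have hself : ∀ v ∈ V, ∀ x ∈ l, x * (v * x * v⁻¹ * x⁻¹) = (v * x * v⁻¹ * x⁻¹) * x := by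
    intro v hv x hx
    have hvv := hV2 v hv
    have e1 : v⁻¹ = v := inv_eq_of_mul_eq_one_right hvv
    have h4 : x * v * x⁻¹ * v = v * (x * v * x⁻¹) := hab _ (hull_cj (hlN hx) hv) v hv
    have h5 := hsq x hx v hv
    have h6 : x * (x * v * x⁻¹) * x⁻¹ = v := by
      calc x * (x * v * x⁻¹) * x⁻¹ = x * x * v * (x * x)⁻¹ := by group
        _ = v := by rw [h5]; group
    rw [e1]
    calc x * (v * x * v * x⁻¹) = x * v * x⁻¹ * (x * (x * v * x⁻¹) * x⁻¹) * x := by group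
      _ = x * v * x⁻¹ * v * x := by rw [h6]
      _ = v * (x * v * x⁻¹) * x := by rw [h4]
      _ = v * x * v * x⁻¹ * x := by group
  have hquad : ∀ v ∈ V, ∀ x ∈ l, ∀ x' ∈ l,
      x' * (v * x * v⁻¹ * x⁻¹) = (v * x * v⁻¹ * x⁻¹) * x' := by
    intro v hv x hx x' hx'
    by_cases hxD : x ∈ D
    · have h1 : v * x * v⁻¹ * x⁻¹ = 1 := by
        rw [← hPV x (hD hxD) v hv]; group
      rw [h1]; simp
    · have hw := hbr v hv x hx
      exact hl.star _ (hPS (hVP hw)) (hPz (hVP hw)) (hV2 _ hw) x hx hxD (hself v hv x hx) x' hx'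
  have hCM : ∀ n ∈ N, (∀ v ∈ V, n * v = v * n) → n ∈ M := by
    intro n _ hnc
    exact ht.mem hzC hz2 (hnc z (hV₀V hz))
  obtain ⟨a, ha, b, hb, haD, hbD, habD⟩ := hl.pair
  have hact : ∀ w ∈ V, a * b * w * (a * b)⁻¹ = b * a * w * (b * a)⁻¹ := by
    intro w hw
    have h1 : a * b * (a * b) * w = w * (a * b * (a * b)) := hsq _ (mul_mem ha hb) w hw
    have h4 : a * b * (b * a * w * (b * a)⁻¹) * (a * b)⁻¹ = w := by
      have h5 : a * w * a⁻¹ ∈ V := hull_cj (hlN ha) hw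
      calc a * b * (b * a * w * (b * a)⁻¹) * (a * b)⁻¹ = a * (b * b * (a * w * a⁻¹) * (b * b)⁻¹) * a⁻¹ := by group
        _ = a * (a * w * a⁻¹) * a⁻¹ := by rw [hsq b hb _ h5]; group
        _ = a * a * w * (a * a)⁻¹ := by group
        _ = w := by rw [hsq a ha w hw]; group
    have h6 : a * b * (a * b * w * (a * b)⁻¹) * (a * b)⁻¹ = w := by
      calc a * b * (a * b * w * (a * b)⁻¹) * (a * b)⁻¹ = a * b * (a * b) * w * (a * b * (a * b))⁻¹ := by group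
        _ = w := by rw [h1]; group
    have h7 : a * b * (a * b * w * (a * b)⁻¹) * (a * b)⁻¹ = a * b * (b * a * w * (b * a)⁻¹) * (a * b)⁻¹ := by
      rw [h6, h4]
    exact mul_left_cancel (mul_right_cancel h7)
  have htr : ∀ v ∈ V, ∃ a ∈ l, ∃ b ∈ l,
      (∀ w ∈ V, a * a * w = w * (a * a)) ∧ (∀ w ∈ V, b * b * w = w * (b * b)) ∧
      (∀ w ∈ V, a * b * w * (a * b)⁻¹ = b * a * w * (b * a)⁻¹) ∧
      (∃ w ∈ V, a * w ≠ w * a) ∧ (∃ w ∈ V, b * w ≠ w * b) ∧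
      (∃ w ∈ V, a⁻¹ * b * w ≠ w * (a⁻¹ * b)) ∧
      v * (a * v * a⁻¹) * (b * v * b⁻¹) * (a * b * v * (a * b)⁻¹) = 1 := by
    intro v hv
    refine ⟨a, ha, b, hb, hsq a ha, hsq b hb, hact, hnt a ha haD, hnt b hb hbD,
      hnt _ (mul_mem (inv_mem ha) hb) habD, ?_⟩
    have hvv := hV2 v hv
    have e1 : v⁻¹ = v := inv_eq_of_mul_eq_one_right hvv
    have h5 : b * (v * a * v⁻¹ * a⁻¹) = v * a * v⁻¹ * a⁻¹ * b := hquad v hv a ha b hb
    rw [e1] at h5
    have h6 : (v * a * v * a⁻¹) * (v * a * v * a⁻¹) = 1 := by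
      have h7 := hV2 _ (hbr v hv a ha)
      rwa [e1] at h7
    have hba : (b * v * b⁻¹) * (a * b * v * (a * b)⁻¹) = b * (v * (a * v * a⁻¹)) * b⁻¹ := by
      rw [hact v hv]; group
    rw [mul_assoc (v * (a * v * a⁻¹)), hba]
    calc v * (a * v * a⁻¹) * (b * (v * (a * v * a⁻¹)) * b⁻¹)
        = (v * a * v * a⁻¹) * (b * (v * a * v * a⁻¹)) * b⁻¹ := by group
      _ = (v * a * v * a⁻¹) * (v * a * v * a⁻¹ * b) * b⁻¹ := by rw [h5]
      _ = (v * a * v * a⁻¹) * (v * a * v * a⁻¹) := by group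
      _ = 1 := h6
  -- the hull is inner
  have hin : V ≤ innerIn K V := by
    refine hull_le_of_trace (M := M) (T := l) hab hCM ?_ ?_ hlN hlM semi htr
    · intro x hx
      exact ⟨hV₀V hx, Inner.of_C hx.2.1⟩
    · intro n hn hnM v hv
      have hv' : n * v * n⁻¹ ∈ V := hull_cj hn hv
      refine ⟨mul_mem (inv_mem hv) hv', ?_⟩
      rcases hBK.graph S hS v (hPS (hVP hv)) (n * v * n⁻¹) (hPS (hVP hv')) (hPz (hVP hv)) (hPz (hVP hv'))
        with h1 | h1 | h1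
      · exact h1.inv.mul (h1.conj normalizer_norm hnM)
      · have h2 : Inner K v := by
          have h3 := h1.conj normalizer_norm (inv_mem hnM)
          have e : n⁻¹ * (n * v * n⁻¹) * n⁻¹⁻¹ = v := by group
          rwa [e] at h3
        exact h2.inv.mul h1
      · exact h1
  refine hull_falseR (K := K) (M := M) (N := N) (V₀ := V₀) (T := l)
    ?_ hcen hKM hV2 hab hCM hVN ?_ ?_ hlK hlN hlM hl2 semi htr
  · intro x hx k hk
    exact hcomm k hk x hx.2.1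
  · intro n hn v hv
    have h1 := hVZ _ (hull_cj (v := v) hn (hV₀V hv))
    obtain ⟨c, hc, k, hk, hck⟩ := (hin (hull_cj (v := v) hn (hV₀V hv))).2
    rw [hck] at h1
    exact ⟨c, comp_omegaZ ht hcen hQ inf_le_left hPM hc hk h1.1 h1.2.1 h1.2.2, k, hk, hck⟩
  · refine ⟨n₀, hn₀, z, hz, ?_⟩
    intro h1
    exact hn₀M (ht.tight n₀ z hzC hz2 h1.2.1)

end Cfsg.Agent.OddHalf.D4.Free

end

-- merged: Cfsg.Agent.OddHalf.D4.Free.Main
section

/-!
# ODD, D4, (1B): the free pair theorem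

`no_fullPair`: `K` tight, `K ∩ C(K) = 1`, `m_2(C(K)) ≥ 2`, `BFacts` for all conjugates of `K`, no full pair `(K, L)` has
a Sylow 2-subgroup of `K` in `N(L)`. Then there is no full pair.
-/

set_option autoImplicit false

namespace Cfsg.Agent.OddHalf.D4.Free

open Cfsg Subgroup Cfsg.Agent.OddHalf.D4 Cfsg.Agent.OddHalf.D4.Basic
open Cfsg.Agent.OddHalf.D4.CommConj (Tight cj mem_cj cj_mul card_cj mem_cj_mul exists_central_involution
  cj_eq_of_mem_normalizer mem_normalizer_of_cj_eq)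

variable {G : Type*} [Group G] [Finite G] {K : Subgroup G}

omit [Finite G] in
theorem cen_cj (hcen : ∀ x ∈ K, x ∈ centralizer (K : Set G) → x = 1) (g : G) :
    ∀ x ∈ cj g K, x ∈ centralizer ((cj g K : Subgroup G) : Set G) → x = 1 := by
  intro x hx hxc
  rw [centralizer_cj] at hxc
  have h1 := hcen _ (mem_cj.mp hx) (mem_cj.mp hxc)
  calc x = g * (g⁻¹ * x * g) * g⁻¹ := by group
    _ = 1 := by rw [h1]; group

/-- a free pair gives a full pair -/
theorem full_of_free {g₁ g₂ : G} {P : Subgroup G} (ht : TightAt K) (hne : cj g₁ K ≠ cj g₂ K)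
    (h : FreePair (cj g₁ K) (cj g₂ K) P) : FullPair (cj g₁ K) (cj g₂ K)
      (P ⊓ centralizer ((cj g₁ K : Subgroup G) : Set G)) (P ⊓ centralizer ((cj g₂ K : Subgroup G) : Set G)) := by
  have hL : cj g₂ K = cj (g₂ * g₁⁻¹) (cj g₁ K) := by
    rw [← cj_mul]
    congr 1
    group
  have hn : g₂ * g₁⁻¹ ∉ normalizer ((cj g₁ K : Subgroup G) : Set G) := by
    intro h1
    apply hne
    rw [hL, cj_eq_of_mem_normalizer h1]
  have ht₁ := ht.cj g₁
  have ht₂ := ht.cj g₂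
  refine ⟨⟨_, hn, hL⟩, h.sylK, h.sylL, ?_⟩
  intro q hq u hu
  by_contra hqu
  have h4 : q * u * q⁻¹ * u⁻¹ ∈ (P ⊓ centralizer ((cj g₁ K : Subgroup G) : Set G)) ⊓
      (P ⊓ centralizer ((cj g₂ K : Subgroup G) : Set G)) := by
    have hP : q * u * q⁻¹ * u⁻¹ ∈ P := P.mul_mem (P.mul_mem (P.mul_mem hq.1 hu.1) (P.inv_mem hq.1)) (P.inv_mem hu.1)
    refine ⟨⟨hP, ?_⟩, hP, ?_⟩
    · have e : q * u * q⁻¹ * u⁻¹ = q * (u * q⁻¹ * u⁻¹) := by group
      rw [e]
      exact mul_mem hq.2 (ht₁.norm u (h.frK.le hu.1) _ (inv_mem hq.2))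
    · exact (centralizer ((cj g₂ K : Subgroup G) : Set G)).mul_mem (ht₂.norm q (h.frL.le hq.1) _ hu.2)
        ((centralizer ((cj g₂ K : Subgroup G) : Set G)).inv_mem hu.2)
  have h5 : q * u * q⁻¹ * u⁻¹ ≠ 1 := by
    intro h6
    apply hqu
    calc q * u = q * u * q⁻¹ * u⁻¹ * (u * q) := by group
      _ = u * q := by rw [h6, one_mul]
  obtain ⟨z, hz, hzN, hz2, -⟩ := exists_central_involution
    (S := (P ⊓ centralizer ((cj g₁ K : Subgroup G) : Set G)) ⊓ (P ⊓ centralizer ((cj g₂ K : Subgroup G) : Set G)))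
    (N := (P ⊓ centralizer ((cj g₁ K : Subgroup G) : Set G)) ⊓ (P ⊓ centralizer ((cj g₂ K : Subgroup G) : Set G)))
    (h.frK.two.to_le (inf_le_left.trans inf_le_left))
    (fun s hs n hn => mul_mem (mul_mem hs hn) (inv_mem hs)) ⟨_, h4, h4, h5⟩
  refine hn (ht₁.eq hz.1.2 hz2 ?_)
  rw [← hL]
  exact hz.2.2

/-- **(1B): the free pair theorem.** -/
theorem no_fullPair (ht : TightAt K) (hcen : ∀ x ∈ K, x ∈ centralizer (K : Set G) → x = 1) (hr : Rk2 K)
    (hB : ∀ g : G, BFacts (cj g K)) (hin : Inp K) {L Q U : Subgroup G} (hp : FullPair K L Q U) : False := by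
  classical
  have he : Even (Nat.card ↥(centralizer (K : Set G))) := by
    obtain ⟨a, b, ha, hb, ha2, -⟩ := hr
    have h1 : orderOf (⟨a, ha⟩ : ↥(centralizer (K : Set G))) = 2 := by
      rw [← ha2]; exact Subgroup.orderOf_mk a ha
    have h2 := orderOf_dvd_natCard (⟨a, ha⟩ : ↥(centralizer (K : Set G)))
    rw [h1] at h2
    exact even_iff_two_dvd.mpr h2
  have heg : ∀ g : G, Even (Nat.card ↥(centralizer ((cj g K : Subgroup G) : Set G))) := by
    intro g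
    rw [centralizer_cj, card_cj]; exact he
  obtain ⟨g₁', g₂', P', hne', hP'⟩ := exists_free ht he hcen hr hB hin hp
  -- a maximal free pair
  let 𝓟 : Set (G × G × Subgroup G) := {x | cj x.1 K ≠ cj x.2.1 K ∧ FreePair (cj x.1 K) (cj x.2.1 K) x.2.2}
  have hne𝓟 : Nonempty 𝓟 := ⟨⟨(g₁', g₂', P'), hne', hP'⟩⟩
  have hfin : Finite 𝓟 := inferInstance
  obtain ⟨⟨⟨g₁, g₂, P⟩, hne, hP⟩, hmax⟩ := Finite.exists_max (fun x : 𝓟 => Nat.card ↥(x.1.2.2))
  have hmax' : ∀ h₁ h₂ : G, ∀ P₁ : Subgroup G, cj h₁ K ≠ cj h₂ K → FreePair (cj h₁ K) (cj h₂ K) P₁ → P ≤ P₁ →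
      P₁ ≤ P := by
    intro h₁ h₂ P₁ hh hP₁ hle
    have h1 : Nat.card ↥P₁ ≤ Nat.card ↥P := hmax ⟨(h₁, h₂, P₁), hh, hP₁⟩
    exact (eq_of_le_of_card_ge hle h1).ge
  -- the contradiction if `N(P)` does not normalize the first group
  have main : ∀ g₁ g₂ : G, cj g₁ K ≠ cj g₂ K → FreePair (cj g₁ K) (cj g₂ K) P →
      normalizer (P : Set G) ≤ normalizer ((cj g₁ K : Subgroup G) : Set G) := by
    intro g₁ g₂ hne hP
    by_contra hcon
    rw [SetLike.not_le_iff_exists] at hcon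
    obtain ⟨S, hS, hPS⟩ := exists_good hP.frK.two hP.frK.le
    have hSP : ¬ S ⊓ cj g₁ K ≤ P := by
      intro hle
      exact (hin.cj g₁) _ _ _ (full_of_free ht hne hP) _ hS.syl (hle.trans hP.frL.le)
    have hcjP : ∀ n ∈ normalizer (P : Set G), cj n P = P := fun n hn => cj_eq_of_mem_normalizer hn
    refine false_of_max (K := cj g₁ K) (P := P) (ht.cj g₁) (heg g₁) (cen_cj hcen g₁) (hB g₁) ?_ ?_ ?_ ?_ hS hPS hSP
    · intro g
      rw [← cj_mul]
      exact hB _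
    · intro n hn hnM
      have h' := hP.cj n
      rw [hcjP n hn] at h'
      exact ⟨hP.frK, h'.frK, hP.sylK, h'.sylK, hP.zK, h'.zK⟩
    · intro n hn hnM P₁ hP₁ hle
      rw [← cj_mul] at hP₁
      refine hmax' g₁ (n * g₁) P₁ ?_ hP₁ hle
      intro h1
      apply hnM
      apply mem_normalizer_of_cj_eq
      rw [← cj_mul, ← h1]
    · obtain ⟨n, hn, hnM⟩ := hcon
      exact ⟨n, hn, hnM⟩
  -- the line normalizes the second group
  obtain ⟨S, hS, hPS⟩ := exists_good hP.frK.two hP.frK.le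
  have hSP : ¬ S ⊓ cj g₁ K ≤ P := by
    intro hle
    exact (hin.cj g₁) _ _ _ (full_of_free ht hne hP) _ hS.syl (hle.trans hP.frL.le)
  obtain ⟨D, hD, l, hlS, hlN, hlP, hl⟩ := (hB g₁).line S hS P hPS (hP.frK.le_cz (hB g₁) hS hPS) hSP
  exact hlP (line_le (ht.cj g₁) (heg g₁) (hB g₁) (hB g₂) hP
    (fun P₁ hP₁ hle => hmax' g₁ g₂ P₁ hne hP₁ hle) hS hPS hD hlS
    (hlN.trans (main g₂ g₁ hne.symm hP.symm)) hl)

end Cfsg.Agent.OddHalf.D4.Free

end
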